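import Cfsg.Agent.Helper28.L37Q.Data
set_option autoImplicit false
set_option maxRecDepth 1000000
namespace Cfsg.Agent.Helper28.L37Q
open Cfsg.Agent.Helper28
def chunks0 : List Nat := [0x700001c0002000000d00001800000600000c0000000000180000000501000010500000f0000150002000010f0000110001000011000000e0001000010b00000b0000090002000000f0000050001000001000000a0001000000b0000060001000000409]
theorem facts_ok0 : checkChunks tabs chunks0 0 9 = true := by decide +kernel
end Cfsg.Agent.Helper28.L37Q
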